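import Groth.Agent.HenselLib.NewtonSystem
import Mathlib.RingTheory.Unramified.Basic
import Mathlib.Algebra.Algebra.Epi
import Mathlib.RingTheory.Nilpotent.Lemmas

/-!
# Finite etale algebras over quotients in characteristic `p` lift
-/

set_option autoImplicit false

universe u

open TensorProduct MvPolynomial

namespace EtLiftCharPLib

variable {p : ℕ} [hp : Fact p.Prime]

theorem add_pow_eq_helper {T : Type u} [CommRing T] (hT : (p : T) = 0) (x y : T) :
    (x + y) ^ p = x ^ p + y ^ p := by
  obtain ⟨r, hr⟩ := exists_add_pow_prime_eq hp.out x y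
  rw [hr, hT, zero_mul, zero_mul, zero_mul, add_zero]

theorem sub_pow_eq_zero_helper {T : Type u} [CommRing T] (hT : (p : T) = 0) {x y : T} :
    (x - y) ^ p = x ^ p - y ^ p := by
  have h := add_pow_eq_helper hT (x - y) y
  rw [sub_add_cancel] at h
  rw [h, add_sub_cancel_right]

/-- In characteristic `p`, a finite unramified algebra is generated by `p`-th powers. -/
theorem exists_sum_pow {A B : Type u} [CommRing A] [CommRing B] [Algebra A B] [Module.Finite A B]
    [Algebra.FormallyUnramified A B] (hpB : (p : B) = 0) {m : ℕ} (g : Fin m → B)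
    (hg : Submodule.span A (Set.range g) = ⊤) (y : B) :
    ∃ c : Fin m → A, y = ∑ l, algebraMap A B (c l) * g l ^ p := by
  classical
  let B' : Subalgebra A B := Algebra.adjoin A (Set.range fun b : B => b ^ p)
  haveI : Algebra.FormallyUnramified B' B := Algebra.FormallyUnramified.of_restrictScalars A B' B
  haveI : Module.Finite B' B := Module.Finite.of_restrictScalars_finite A B' B
  have hpT : (p : B ⊗[B'] B) = 0 := by
    rw [← map_natCast (algebraMap B (B ⊗[B'] B)) p, hpB, map_zero]
  let δ : B → B ⊗[B'] B := fun b => b ⊗ₜ[B'] (1 : B) - (1 : B) ⊗ₜ[B'] b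
  have hnil : ∀ b, δ b ^ p = 0 := fun b => by
    change (b ⊗ₜ[B'] (1 : B) - (1 : B) ⊗ₜ[B'] b) ^ p = 0
    rw [sub_pow_eq_zero_helper hpT]
    rw [Algebra.TensorProduct.tmul_pow, Algebra.TensorProduct.tmul_pow, one_pow,
      show b ^ p = (⟨b ^ p, Algebra.subset_adjoin ⟨b, rfl⟩⟩ : B') • (1 : B) by
        rw [Subalgebra.smul_def, smul_eq_mul, mul_one],
      TensorProduct.smul_tmul, sub_self]
  let J : Ideal (B ⊗[B'] B) := Ideal.span (Set.range fun l => δ (g l))
  have hδ : ∀ b, δ b ∈ J := by
    intro b
    have hb : b ∈ Submodule.span A (Set.range g) := hg ▸ trivial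
    induction hb using Submodule.span_induction with
    | mem x hx => obtain ⟨l, rfl⟩ := hx; exact Ideal.subset_span ⟨l, rfl⟩
    | zero => simp [δ]
    | add x y _ _ hx hy =>
      rw [show δ (x + y) = δ x + δ y by
        simp only [δ, TensorProduct.add_tmul, TensorProduct.tmul_add]; abel]
      exact add_mem hx hy
    | smul a x _ hx =>
      rw [show δ (a • x) = a • δ x by
        simp only [δ, TensorProduct.smul_tmul', TensorProduct.tmul_smul, smul_sub]]
      exact Submodule.smul_of_tower_mem _ a hx
  have hJ : IsNilpotent J := by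
    refine (Ideal.FG.isNilpotent_iff_le_nilradical (Submodule.fg_span (Set.finite_range _))).mpr ?_
    refine Ideal.span_le.mpr ?_
    rintro _ ⟨l, rfl⟩
    exact ⟨p, hnil _⟩
  have hext : (Algebra.TensorProduct.includeLeft : B →ₐ[B'] B ⊗[B'] B) =
      (Algebra.TensorProduct.includeRight : B →ₐ[B'] B ⊗[B'] B) :=
    Algebra.FormallyUnramified.ext J hJ fun x => Ideal.Quotient.eq.mpr (hδ x)
  haveI hepi : Algebra.IsEpi B' B := (Algebra.isEpi_iff_forall_one_tmul_eq B' B).mpr fun b =>
    (DFunLike.congr_fun hext b).symm
  have hsurj : Function.Surjective (algebraMap B' B) :=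
    (Algebra.isEpi_iff_surjective_algebraMap_of_finite).mp hepi
  obtain ⟨⟨z, hz⟩, rfl⟩ := hsurj y
  -- `B'` is the span of the `g l ^ p`
  have hone : ∀ b : B, b ^ p ∈ Submodule.span A (Set.range fun l => g l ^ p) := by
    intro b
    have hb : b ∈ Submodule.span A (Set.range g) := hg ▸ trivial
    induction hb using Submodule.span_induction with
    | mem x hx => obtain ⟨l, rfl⟩ := hx; exact Submodule.subset_span ⟨l, rfl⟩
    | zero => rw [zero_pow hp.out.ne_zero]; exact zero_mem _
    | add x y _ _ hx hy =>
      rw [add_pow_eq_helper hpB]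
      exact add_mem hx hy
    | smul a x _ hx => rw [smul_pow]; exact Submodule.smul_mem _ _ hx
  have hsub : z ∈ Submodule.span A (Set.range fun l => g l ^ p) := by
    have h1 : z ∈ Subalgebra.toSubmodule B' := hz
    rw [Algebra.adjoin_eq_span] at h1
    refine Submodule.span_le.mpr ?_ h1
    intro w hw
    induction hw using Submonoid.closure_induction with
    | mem x hx => obtain ⟨b, rfl⟩ := hx; exact hone b
    | one => simpa using hone 1
    | mul x y _ _ hx hy =>
      have hmul : Submodule.span A (Set.range fun l => g l ^ p) * Submodule.span A (Set.range fun l => g l ^ p) ≤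
          Submodule.span A (Set.range fun l => g l ^ p) := by
        rw [Submodule.span_mul_span, Submodule.span_le]
        rintro _ ⟨_, ⟨l, rfl⟩, _, ⟨i, rfl⟩, rfl⟩
        change g l ^ p * g i ^ p ∈ _
        rw [← mul_pow]
        exact hone _
      exact hmul (Submodule.mul_mem_mul hx hy)
  obtain ⟨c, hc⟩ := (Submodule.mem_span_range_iff_exists_fun A).mp hsub
  exact ⟨c, by
    change z = _
    rw [← hc]; simp [Algebra.smul_def]⟩

/-- The system `X_i^(p^2) = X_i + ∑ z i l X_l^p` defines a finite etale algebra. -/
theorem system_finite_etale {R : Type u} [CommRing R] (hpR : (p : R) = 0) {m : ℕ} (z : Fin m → Fin m → R) :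
    Module.Finite R (MvPolynomial (Fin m) R ⧸ Ideal.span (Set.range fun i =>
        (X i ^ (p * p) - (X i + ∑ l, C (z i l) * X l ^ p) : MvPolynomial (Fin m) R))) ∧
      Algebra.Etale R (MvPolynomial (Fin m) R ⧸ Ideal.span (Set.range fun i =>
        (X i ^ (p * p) - (X i + ∑ l, C (z i l) * X l ^ p) : MvPolynomial (Fin m) R))) := by
  classical
  set P : Fin m → MvPolynomial (Fin m) R := fun i => X i ^ (p * p) - (X i + ∑ l, C (z i l) * X l ^ p) with hP
  let Q := MvPolynomial (Fin m) R ⧸ Ideal.span (Set.range P)
  have hp0 : (p : MvPolynomial (Fin m) R) = 0 := by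
    rw [← map_natCast (C : R →+* MvPolynomial (Fin m) R), hpR, map_zero]
  constructor
  · let N := p * p
    let s : Set (Fin m →₀ ℕ) := {d | ∀ i, d i < N}
    have hs : s.Finite := by
      refine ((Set.Finite.pi' (t := fun _ : Fin m => Set.Iio N) fun _ => Set.finite_Iio N).preimage
        (f := fun d : Fin m →₀ ℕ => (d : Fin m → ℕ)) (fun a _ b _ h => DFunLike.coe_injective h)).subset ?_
      exact fun d hd i => hd i
    let S : Submodule R Q := Submodule.span R ((fun d => Ideal.Quotient.mk _ (monomial d (1 : R))) '' s)
    have hN1 : 1 < N := Nat.one_lt_mul_iff.mpr ⟨hp.out.pos, hp.out.pos, Or.inl hp.out.one_lt⟩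
    have hN2 : p < N := by
      calc p = p * 1 := (mul_one p).symm
        _ < p * p := Nat.mul_lt_mul_of_pos_left hp.out.one_lt hp.out.pos
    have key : ∀ (n : ℕ) (d : Fin m →₀ ℕ), d.degree = n →
        (Ideal.Quotient.mk _ (monomial d (1 : R)) : Q) ∈ S := by
      intro n
      induction n using Nat.strong_induction_on with
      | _ n ih =>
        intro d hd
        by_cases hds : d ∈ s
        · exact Submodule.subset_span ⟨d, hds, rfl⟩
        · simp only [s, Set.mem_setOf_eq, not_forall, not_lt] at hds
          obtain ⟨i, hi⟩ := hds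
          let d' := d - Finsupp.single i N
          have hd' : d' + Finsupp.single i N = d := tsub_add_cancel_of_le (Finsupp.single_le_iff.mpr hi)
          have hdeg : d'.degree + N = n := by
            rw [← hd, ← hd', map_add, Finsupp.degree_single]
          have e1 : (Ideal.Quotient.mk _ (monomial d (1 : R)) : Q) =
              Ideal.Quotient.mk _ (monomial d' 1 * (X i + ∑ l, C (z i l) * X l ^ p)) := by
            refine Ideal.Quotient.eq.mpr ?_
            rw [← hd', monomial_add_single, ← mul_sub]
            exact Ideal.mul_mem_left _ _ (Ideal.subset_span ⟨i, rfl⟩)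
          rw [e1, mul_add, map_add, Finset.mul_sum, map_sum]
          refine add_mem ?_ (sum_mem fun l _ => ?_)
          · rw [← pow_one (X i : MvPolynomial (Fin m) R), ← monomial_add_single]
            exact ih (d'.degree + 1) (by omega) _ (by rw [map_add, Finsupp.degree_single])
          · rw [show monomial d' (1 : R) * (C (z i l) * X l ^ p) =
              z i l • monomial (d' + Finsupp.single l p) (1 : R) by
                rw [monomial_add_single, smul_eq_C_mul]; ring]
            change Ideal.Quotient.mkₐ R _ _ ∈ S
            rw [map_smul]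
            exact Submodule.smul_mem _ _ (ih (d'.degree + p) (by omega) _ (by rw [map_add, Finsupp.degree_single]))
    refine ⟨⟨(hs.image fun d => (Ideal.Quotient.mk _ (monomial d (1 : R)) : Q)).toFinset, ?_⟩⟩
    rw [Set.Finite.coe_toFinset, eq_top_iff]
    intro q _
    obtain ⟨f, rfl⟩ := Ideal.Quotient.mk_surjective q
    rw [f.as_sum, map_sum]
    refine sum_mem fun d _ => ?_
    rw [show monomial d (f.coeff d) = f.coeff d • monomial d (1 : R) by
      rw [smul_monomial, smul_eq_mul, mul_one]]
    change Ideal.Quotient.mkₐ R _ _ ∈ S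
    rw [map_smul]
    exact Submodule.smul_mem _ _ (key _ d rfl)
  · have hder : (Matrix.of fun i j => pderiv i (P j)) = -1 := by
      ext i j
      simp only [Matrix.of_apply, hP, map_sub, map_add, map_sum, pderiv_pow, pderiv_C_mul, pderiv_X,
        Nat.cast_mul, hp0, zero_mul, mul_zero, zero_sub, Finset.sum_const_zero, add_zero,
        Matrix.neg_apply]
      by_cases h : i = j
      · subst h; simp [Matrix.one_apply]
      · simp [Matrix.one_apply, h, Pi.single_eq_of_ne]
    let J : Q := Ideal.Quotient.mk _ (Matrix.of fun i j => pderiv i (P j)).det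
    have hJ : IsUnit J := by
      refine IsUnit.map _ ?_
      rw [hder, Matrix.det_neg, Matrix.det_one, mul_one]
      exact (isUnit_one.neg).pow _
    haveI : Algebra.Etale R (Localization.Away J) := HenselLib.etale_away_jacobian P
    exact Algebra.Etale.of_equiv
      ((IsLocalization.atUnit Q (Localization.Away J) J hJ).restrictScalars R).symm

end EtLiftCharPLib
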